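import Groth.Agent.Lib.PunctSec7.Higher
import Groth.Agent.Lib.ExtCech.Compare
import Groth.Agent.Lib.SGA2Fin.CechFunctor
import Mathlib.Algebra.Homology.HomologySequenceLemmas

/-!
# Natural comparison of sections and cohomology on a punctured spectrum with Čech local cohomology
-/

set_option autoImplicit false
set_option linter.style.haveILetI false
set_option linter.unusedSectionVars false

universe u

open CategoryTheory CategoryTheory.Limits AlgebraicGeometry Opposite DerCA Formal2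

noncomputable section

namespace GrothLib.AlgzFormal3

open GrothLib.Cohom (hhMap hhDelta)

variable {A : Type u} [CommRing A]

theorem exists_embedding (M : ModuleCat.{u} A) : ∃ S : ShortComplex (ModuleCat.{u} A),
    S.ShortExact ∧ S.X₁ = M ∧ Module.Injective A S.X₂ := by
  obtain ⟨E, _, _, ι, hE, hι⟩ := GrothLib.InjMod.exists_embedding_injective (R := A) M
  refine ⟨ShortComplex.moduleCatMk ι (LinearMap.range ι).mkQ (LinearMap.range_mkQ_comp ι), ?_, rfl, hE⟩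
  exact { exact := by
            rw [ShortComplex.ShortExact.moduleCat_exact_iff_function_exact]
            exact LinearMap.exact_iff.2 (Submodule.ker_mkQ _)
          mono_f := (ModuleCat.mono_iff_injective _).2 hι
          epi_g := (ModuleCat.epi_iff_surjective _).2 (Submodule.mkQ_surjective _) }

theorem exists_lift {S T : ShortComplex (ModuleCat.{u} A)} (hS : S.ShortExact) (hE : Module.Injective A T.X₂)
    (φ : S.X₁ ⟶ T.X₁) : ∃ τ : S ⟶ T, τ.τ₁ = φ := by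
  haveI := hS.mono_f
  haveI : Injective T.X₂ := Module.injective_object_of_injective_module A T.X₂
  let ψ : S.X₂ ⟶ T.X₂ := Injective.factorThru (φ ≫ T.f) S.f
  have hψ : S.f ≫ ψ = φ ≫ T.f := Injective.comp_factorThru _ _
  haveI := hS.epi_g
  have h0 : S.f ≫ ψ ≫ T.g = 0 := by rw [← Category.assoc, hψ, Category.assoc, T.zero, comp_zero]
  exact ⟨{ τ₁ := φ, τ₂ := ψ, τ₃ := hS.exact.desc (ψ ≫ T.g) h0, comm₁₂ := hψ.symm,
           comm₂₃ := (hS.exact.g_desc _ h0).symm }, rfl⟩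

/-- One step of dimension shifting, naturally in the module. -/
theorem exists_shift {F₀ F₁ G₀ G₁ : ModuleCat.{u} A → Type u}
    [∀ M, AddCommGroup (F₀ M)] [∀ M, AddCommGroup (F₁ M)] [∀ M, AddCommGroup (G₀ M)] [∀ M, AddCommGroup (G₁ M)]
    (f₀ : ∀ {M N : ModuleCat.{u} A}, (M ⟶ N) → (F₀ M →+ F₀ N))
    (f₁ : ∀ {M N : ModuleCat.{u} A}, (M ⟶ N) → (F₁ M →+ F₁ N))
    (g₀ : ∀ {M N : ModuleCat.{u} A}, (M ⟶ N) → (G₀ M →+ G₀ N))
    (g₁ : ∀ {M N : ModuleCat.{u} A}, (M ⟶ N) → (G₁ M →+ G₁ N))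
    (dF : ∀ S : ShortComplex (ModuleCat.{u} A), S.ShortExact → (F₀ S.X₃ →+ F₁ S.X₁))
    (dG : ∀ S : ShortComplex (ModuleCat.{u} A), S.ShortExact → (G₀ S.X₃ →+ G₁ S.X₁))
    (nF : ∀ (S T : ShortComplex (ModuleCat.{u} A)) (hS : S.ShortExact) (hT : T.ShortExact) (τ : S ⟶ T) (x : F₀ S.X₃),
      dF T hT (f₀ τ.τ₃ x) = f₁ τ.τ₁ (dF S hS x))
    (nG : ∀ (S T : ShortComplex (ModuleCat.{u} A)) (hS : S.ShortExact) (hT : T.ShortExact) (τ : S ⟶ T) (x : G₀ S.X₃),
      dG T hT (g₀ τ.τ₃ x) = g₁ τ.τ₁ (dG S hS x))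
    (sF : ∀ (S : ShortComplex (ModuleCat.{u} A)) (hS : S.ShortExact), Module.Injective A S.X₂ →
      Function.Surjective (dF S hS))
    (sG : ∀ (S : ShortComplex (ModuleCat.{u} A)) (hS : S.ShortExact), Module.Injective A S.X₂ →
      Function.Surjective (dG S hS))
    (e₀ : ∀ M, F₀ M →+ G₀ M) (he₀ : ∀ {M N : ModuleCat.{u} A} (φ : M ⟶ N) x, e₀ N (f₀ φ x) = g₀ φ (e₀ M x))
    (hs₀ : ∀ M, Function.Surjective (e₀ M))
    (hker : ∀ (S : ShortComplex (ModuleCat.{u} A)) (hS : S.ShortExact), Module.Injective A S.X₂ → ∀ y,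
      (dG S hS (e₀ _ y) = 0 ↔ dF S hS y = 0)) :
    ∃ e : ∀ M, F₁ M ≃+ G₁ M, ∀ {M N : ModuleCat.{u} A} (φ : M ⟶ N) x, e N (f₁ φ x) = g₁ φ (e M x) := by
  choose S hS hS₁ hE using exists_embedding (A := A)
  have key : ∀ M, ∃ e : F₁ (S M).X₁ ≃+ G₁ (S M).X₁,
      ∀ y, e (dF (S M) (hS M) y) = dG (S M) (hS M) (e₀ _ y) := fun M => by
    choose r hr using sF (S M) (hS M) (hE M)
    have hwd : ∀ x y, dF (S M) (hS M) y = x → dG (S M) (hS M) (e₀ _ (r x)) = dG (S M) (hS M) (e₀ _ y) :=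
      fun x y hy => by
        rw [← sub_eq_zero, ← map_sub, ← map_sub, hker _ _ (hE M), map_sub, hr, hy, sub_self]
    let φ : F₁ (S M).X₁ →+ G₁ (S M).X₁ :=
      { toFun := fun x => dG (S M) (hS M) (e₀ _ (r x))
        map_zero' := (hwd 0 0 (map_zero _)).trans (by rw [map_zero, map_zero])
        map_add' := fun x x' => (hwd (x + x') (r x + r x') (by rw [map_add, hr, hr])).trans
          (by rw [map_add, map_add]) }
    refine ⟨AddEquiv.ofBijective φ ⟨(injective_iff_map_eq_zero φ).2 fun x hx => ?_, fun z => ?_⟩,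
      fun y => hwd _ y rfl⟩
    · rw [← hr x]
      exact (hker _ _ (hE M) _).1 hx
    · obtain ⟨w, rfl⟩ := sG (S M) (hS M) (hE M) z
      obtain ⟨y, rfl⟩ := hs₀ _ w
      exact ⟨dF (S M) (hS M) y, hwd _ y rfl⟩
  choose e he using key
  have hnat : ∀ (M N : ModuleCat.{u} A) (φ : (S M).X₁ ⟶ (S N).X₁) x, e N (f₁ φ x) = g₁ φ (e M x) := by
    intro M N φ x
    obtain ⟨τ, rfl⟩ := exists_lift (hS M) (hE N) φ
    obtain ⟨y, rfl⟩ := sF (S M) (hS M) (hE M) x
    rw [← nF _ _ (hS M) (hS N) τ, he, he, he₀, nG _ _ (hS M) (hS N) τ]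
  have aux : ∀ (M N X Y : ModuleCat.{u} A) (hX : (S M).X₁ = X) (hY : (S N).X₁ = Y) (ψ : X ⟶ Y) (z : F₁ X),
      (hY ▸ e N : F₁ Y ≃+ G₁ Y) (f₁ ψ z) = g₁ ψ ((hX ▸ e M : F₁ X ≃+ G₁ X) z) := by
    rintro M N X Y rfl rfl ψ z
    exact hnat M N ψ z
  exact ⟨fun M => hS₁ M ▸ e M, fun {M N} φ x => aux M N M N (hS₁ M) (hS₁ N) φ x⟩

variable [IsNoetherianRing A] (J : Ideal A) (fs : List A)

/-- The map on Čech local cohomology. -/
abbrev tMap {M N : ModuleCat.{u} A} (φ : M ⟶ N) (k : ℤ) : extCechH fs M k →ₗ[A] extCechH fs N k :=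
  (HomologicalComplex.homologyMap (ExtCech.cxMap φ fs) k).hom

/-- The connecting map. -/
abbrev tδ (S : ShortComplex (ModuleCat.{u} A)) (hS : S.ShortExact) (i j : ℤ) (h : i + 1 = j) :
    extCechH fs S.X₃ i →ₗ[A] extCechH fs S.X₁ j :=
  ((ExtCech.cxShort_shortExact hS fs).δ i j h).hom

theorem tδ_naturality {S T : ShortComplex (ModuleCat.{u} A)} (hS : S.ShortExact) (hT : T.ShortExact) (τ : S ⟶ T)
    (i j : ℤ) (h : i + 1 = j) (x : extCechH fs S.X₃ i) :
    tδ fs T hT i j h (tMap fs τ.τ₃ i x) = tMap fs τ.τ₁ j (tδ fs S hS i j h x) := by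
  let σ : ExtCech.cxShort fs S ⟶ ExtCech.cxShort fs T :=
    { τ₁ := ExtCech.cxMap τ.τ₁ fs
      τ₂ := ExtCech.cxMap τ.τ₂ fs
      τ₃ := ExtCech.cxMap τ.τ₃ fs
      comm₁₂ := (((SGA2Fin.cxF fs).map_comp _ _).symm.trans (congrArg (SGA2Fin.cxF fs).map τ.comm₁₂)).trans
        ((SGA2Fin.cxF fs).map_comp _ _)
      comm₂₃ := (((SGA2Fin.cxF fs).map_comp _ _).symm.trans (congrArg (SGA2Fin.cxF fs).map τ.comm₂₃)).trans
        ((SGA2Fin.cxF fs).map_comp _ _) }
  exact (ConcreteCategory.congr_hom (HomologicalComplex.HomologySequence.δ_naturality σ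
    (ExtCech.cxShort_shortExact hS fs) (ExtCech.cxShort_shortExact hT fs) i j h) x).symm

theorem tδ_surjective (S : ShortComplex (ModuleCat.{u} A)) (hS : S.ShortExact) (hE : Module.Injective A S.X₂)
    (i j : ℤ) (h : i + 1 = j) (hj : 1 ≤ j) : Function.Surjective (tδ fs S hS i j h) :=
  (ModuleCat.epi_iff_surjective _).1 ((ExtCech.cxShort_shortExact hS fs).epi_δ i j h
    (ExtCech.isZero_H_pos_of_injective S.X₂ fs j hj))

theorem tδ_injective (S : ShortComplex (ModuleCat.{u} A)) (hS : S.ShortExact) (hE : Module.Injective A S.X₂)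
    (i j : ℤ) (h : i + 1 = j) (hi : 1 ≤ i) : Function.Injective (tδ fs S hS i j h) :=
  (ModuleCat.mono_iff_injective _).1 ((ExtCech.cxShort_shortExact hS fs).mono_δ i j h
    (ExtCech.isZero_H_pos_of_injective S.X₂ fs i hi))

variable {J fs} (hfs : Ideal.span {x | x ∈ fs} = J)

include hfs in
theorem mem_range_aug_iff (M : ModuleCat.{u} A) (m : M) :
    m ∈ LinearMap.range (ExtCech.aug M fs).hom ↔ Formal2Sec7.j J M m = 0 := by
  rw [ExtCech.range_aug, hfs]
  exact (Punctured.toOpen_eq_zero_iff J (ModuleCat.of (CommRingCat.of A) M) m).symm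

include hfs in
/-- Sections modulo the module, naturally, are the first Čech local cohomology. -/
theorem exists_c : ∃ c : ∀ M : ModuleCat.{u} A, Formal2Sec7.Sc J M →+ extCechH fs M 1,
    (∀ M, Function.Surjective (c M)) ∧
    (∀ M s, c M s = 0 ↔ ∃ m, Formal2Sec7.j J M m = s) ∧
    ∀ {M N : ModuleCat.{u} A} (φ : M ⟶ N) s, c N (Formal2Sec7.sm J φ.hom s) = tMap fs φ 1 (c M s) := by
  choose S hS hS₁ hE using exists_embedding (A := A)
  let Rel : ∀ (S : ShortComplex (ModuleCat.{u} A)), Formal2Sec7.Sc J S.X₁ → extCechH fs S.X₃ 0 → Prop :=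
    fun S s z => ∃ e : S.X₂, Formal2Sec7.sm J S.f.hom s = Formal2Sec7.j J S.X₂ e ∧
      (ExtCech.aug S.X₃ fs).hom z = S.g.hom e
  have rel_ex : ∀ (S : ShortComplex (ModuleCat.{u} A)), S.ShortExact → Module.Injective A S.X₂ → ∀ s,
      ∃ z, Rel S s z := fun S hS hE s => by
    obtain ⟨e, he⟩ := Formal2Sec7.j_surjective J S.X₂ (Formal2Sec7.sm J S.f.hom s)
    have h0 : Formal2Sec7.j J S.X₃ (S.g.hom e) = 0 := by
      rw [← Formal2Sec7.sm_j, he, ← Formal2Sec7.sm_comp, ← ModuleCat.hom_comp, S.zero, ModuleCat.hom_zero,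
        Formal2Sec7.sm_zero]
    obtain ⟨z, hz⟩ := (mem_range_aug_iff hfs S.X₃ _).2 h0
    exact ⟨z, e, he.symm, hz⟩
  have rel_uniq : ∀ (S : ShortComplex (ModuleCat.{u} A)) (hS : S.ShortExact) s z z', Rel S s z → Rel S s z' →
      tδ fs S hS 0 1 rfl z = tδ fs S hS 0 1 rfl z' := by
    rintro S hS s z z' ⟨e, he, hz⟩ ⟨e', he', hz'⟩
    obtain ⟨w, hw⟩ := (mem_range_aug_iff hfs S.X₂ (e - e')).2 (by rw [map_sub, ← he, ← he', sub_self])
    have h1 : tMap fs S.g 0 w = z - z' := (ExtCech.aug_injective_and_range S.X₃ fs).1 (by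
      rw [ExtCech.aug_naturality_apply, hw, map_sub, map_sub, hz, hz'])
    rw [← sub_eq_zero, ← map_sub, ← h1]
    exact ShortComplex.moduleCat_zero_apply
      (ShortComplex.mk _ _ ((ExtCech.cxShort_shortExact hS fs).comp_δ 0 1 rfl)) w
  have key : ∀ M, ∃ c : Formal2Sec7.Sc J (S M).X₁ →+ extCechH fs (S M).X₁ 1,
      ∀ s z, Rel (S M) s z → c s = tδ fs (S M) (hS M) 0 1 rfl z := fun M => by
    choose r hr using rel_ex (S M) (hS M) (hE M)
    refine ⟨AddMonoidHom.mk' (fun s => tδ fs (S M) (hS M) 0 1 rfl (r s)) fun s s' => ?_,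
      fun s z hz => rel_uniq _ (hS M) s _ z (hr s) hz⟩
    obtain ⟨e, he, hz⟩ := hr s
    obtain ⟨e', he', hz'⟩ := hr s'
    rw [← map_add]
    exact rel_uniq _ (hS M) (s + s') _ (r s + r s') (hr (s + s'))
      ⟨e + e', by rw [map_add, map_add, he, he'], by rw [map_add, map_add, hz, hz']⟩
  choose c hc using key
  have hsurj : ∀ M, Function.Surjective (c M) := fun M t => by
    obtain ⟨z, rfl⟩ := tδ_surjective fs (S M) (hS M) (hE M) 0 1 rfl le_rfl t
    obtain ⟨e, he⟩ := (ModuleCat.epi_iff_surjective _).1 (hS M).epi_g ((ExtCech.aug (S M).X₃ fs).hom z)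
    obtain ⟨s, hs⟩ := (Formal2Sec7.exists_sm_eq_of_shortExact J (S M).f.hom (S M).g.hom
      ((ModuleCat.mono_iff_injective _).1 (hS M).mono_f) ((ModuleCat.epi_iff_surjective _).1 (hS M).epi_g)
      ((ShortComplex.moduleCat_exact_iff_range_eq_ker _).1 (hS M).exact)).2 (Formal2Sec7.j J _ e)
      (by rw [Formal2Sec7.sm_j]; exact (mem_range_aug_iff hfs _ _).1 ⟨z, he.symm⟩)
    exact ⟨s, hc M s z ⟨e, hs, he.symm⟩⟩
  have hker : ∀ M s, c M s = 0 ↔ ∃ m, Formal2Sec7.j J (S M).X₁ m = s := fun M s => by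
    constructor
    · intro h
      obtain ⟨z, hz⟩ := rel_ex (S M) (hS M) (hE M) s
      rw [hc M s z hz] at h
      obtain ⟨w, rfl⟩ := (ShortComplex.moduleCat_exact_iff _).1
        ((ExtCech.cxShort_shortExact (hS M) fs).homology_exact₃ 0 1 rfl) z h
      obtain ⟨e, he, hze⟩ := hz
      have h0 : (S M).g.hom (e - (ExtCech.aug (S M).X₂ fs).hom w) = 0 := by
        rw [map_sub, ← ExtCech.aug_naturality_apply, ← hze]
        exact sub_self _
      obtain ⟨m, hm⟩ := (ShortComplex.moduleCat_exact_iff _).1 (hS M).exact _ h0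
      refine ⟨m, Formal2Sec7.sm_injective J (S M).f.hom ((ModuleCat.mono_iff_injective _).1 (hS M).mono_f) ?_⟩
      rw [Formal2Sec7.sm_j]
      refine (congrArg (Formal2Sec7.j J (S M).X₂) hm).trans ?_
      rw [map_sub, (mem_range_aug_iff hfs _ _).1 ⟨w, rfl⟩, sub_zero, he]
    · rintro ⟨m, rfl⟩
      rw [hc M _ 0 ⟨(S M).f.hom m, Formal2Sec7.sm_j J _ m, ?_⟩, map_zero]
      rw [map_zero]
      exact (ShortComplex.moduleCat_zero_apply (S M) m).symm
  have hnat : ∀ (M N : ModuleCat.{u} A) (φ : (S M).X₁ ⟶ (S N).X₁) s,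
      c N (Formal2Sec7.sm J φ.hom s) = tMap fs φ 1 (c M s) := by
    intro M N φ s
    obtain ⟨τ, rfl⟩ := exists_lift (hS M) (hE N) φ
    obtain ⟨z, e, he, hz⟩ := rel_ex (S M) (hS M) (hE M) s
    rw [hc M s z ⟨e, he, hz⟩, ← tδ_naturality fs (hS M) (hS N) τ 0 1 rfl]
    refine hc N _ _ ⟨τ.τ₂.hom e, ?_, ?_⟩
    · rw [← Formal2Sec7.sm_j, ← he, ← Formal2Sec7.sm_comp, ← Formal2Sec7.sm_comp, ← ModuleCat.hom_comp,
        ← ModuleCat.hom_comp, τ.comm₁₂]
    · rw [ExtCech.aug_naturality_apply, hz]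
      exact (ConcreteCategory.congr_hom τ.comm₂₃ e).symm
  have a₁ : ∀ (M X : ModuleCat.{u} A) (hX : (S M).X₁ = X),
      Function.Surjective (hX ▸ c M : Formal2Sec7.Sc J X →+ extCechH fs X 1) ∧
        ∀ s, (hX ▸ c M : Formal2Sec7.Sc J X →+ extCechH fs X 1) s = 0 ↔ ∃ m, Formal2Sec7.j J X m = s := by
    rintro M X rfl
    exact ⟨hsurj M, hker M⟩
  have aux : ∀ (M N X Y : ModuleCat.{u} A) (hX : (S M).X₁ = X) (hY : (S N).X₁ = Y) (ψ : X ⟶ Y) (z : Formal2Sec7.Sc J X),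
      (hY ▸ c N : Formal2Sec7.Sc J Y →+ extCechH fs Y 1) (Formal2Sec7.sm J ψ.hom z) =
        tMap fs ψ 1 ((hX ▸ c M : Formal2Sec7.Sc J X →+ extCechH fs X 1) z) := by
    rintro M N X Y rfl rfl ψ z
    exact hnat M N ψ z
  exact ⟨fun M => hS₁ M ▸ c M, fun M => (a₁ M M (hS₁ M)).1, fun M => (a₁ M M (hS₁ M)).2,
    fun {M N} φ s => aux M N M N (hS₁ M) (hS₁ N) φ s⟩

/-- Cohomology on the punctured spectrum of the restriction of an associated sheaf. -/
abbrev HW (J : Ideal A) (M : ModuleCat.{u} A) (p : ℕ) : Type u :=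
  Coh.HH (LocCoh.puncturedOpen A J : Scheme.{u}) (PunctSec7.rT J M) p

/-- Its map. -/
abbrev wMap (J : Ideal A) {M N : ModuleCat.{u} A} (φ : M ⟶ N) (p : ℕ) : HW J M p →ₗ[A] HW J N p :=
  hhMap A (PunctSec7.rTmap J φ.hom) p

theorem wSES (J : Ideal A) {S : ShortComplex (ModuleCat.{u} A)} (hS : S.ShortExact) :
    (S.map (Punctured.puncFun J)).ShortExact :=
  Punctured.puncFun_shortExact J S hS

/-- The connecting map. -/
abbrev wδ (J : Ideal A) (S : ShortComplex (ModuleCat.{u} A)) (hS : S.ShortExact) (p : ℕ) :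
    HW J S.X₃ p →ₗ[A] HW J S.X₁ (p + 1) :=
  hhDelta A (wSES J hS) p

theorem wδ_naturality (J : Ideal A) {S T : ShortComplex (ModuleCat.{u} A)} (hS : S.ShortExact) (hT : T.ShortExact)
    (τ : S ⟶ T) (p : ℕ) (x : HW J S.X₃ p) :
    wδ J T hT p (wMap J τ.τ₃ p x) = wMap J τ.τ₁ (p + 1) (wδ J S hS p x) :=
  FormalFun.hhDelta_naturality (wSES J hS) (wSES J hT) ((Punctured.puncFun J).mapShortComplex.map τ) p x

theorem subsingleton_HW (J : Ideal A) (E : ModuleCat.{u} A) [h : Module.Injective A E] (p : ℕ) :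
    Subsingleton (HW J E (p + 1)) := by
  haveI : Module.Injective (CommRingCat.of A) (ModuleCat.of (CommRingCat.of A) E) := h
  exact Punctured.subsingleton_HH_of_injective J (ModuleCat.of (CommRingCat.of A) E) p

theorem wδ_surjective (J : Ideal A) (S : ShortComplex (ModuleCat.{u} A)) (hS : S.ShortExact)
    (hE : Module.Injective A S.X₂) (p : ℕ) : Function.Surjective (wδ J S hS p) := fun x =>
  (Cohom.exact₁ (A := A) (wSES J hS) p x).1 ((subsingleton_HW J S.X₂ p).elim _ _)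

include hfs in
/-- The natural comparison in positive degrees. -/
theorem exists_e (p : ℕ) : ∃ e : ∀ M : ModuleCat.{u} A, HW J M (p + 1) ≃+ extCechH fs M ((p : ℤ) + 2),
    ∀ {M N : ModuleCat.{u} A} (φ : M ⟶ N) x, e N (wMap J φ (p + 1) x) = tMap fs φ ((p : ℤ) + 2) (e M x) := by
  induction p with
  | zero =>
    obtain ⟨c, hcs, hck, hcn⟩ := exists_c (J := J) hfs
    let σ : ∀ M : ModuleCat.{u} A, HW J M 0 ≃+ Formal2Sec7.Sc J M := fun M =>
      (Punctured.H0Sec J (ModuleCat.of (CommRingCat.of A) M)).toAddEquiv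
    have hσ : ∀ {M N : ModuleCat.{u} A} (φ : M ⟶ N) x, σ N (wMap J φ 0 x) = Formal2Sec7.sm J φ.hom (σ M x) :=
      fun {M N} φ x => Punctured.H0Sec_map J (ModuleCat.ofHom (R := CommRingCat.of A) φ.hom) x
    refine exists_shift (A := A) (fun φ => (wMap J φ 0).toAddMonoidHom) (fun φ => (wMap J φ 1).toAddMonoidHom)
      (fun φ => (tMap fs φ 1).toAddMonoidHom) (fun φ => (tMap fs φ 2).toAddMonoidHom)
      (fun S hS => (wδ J S hS 0).toAddMonoidHom) (fun S hS => (tδ fs S hS 1 2 rfl).toAddMonoidHom)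
      (fun S T hS hT τ x => wδ_naturality J hS hT τ 0 x) (fun S T hS hT τ x => tδ_naturality fs hS hT τ 1 2 rfl x)
      (fun S hS hE => wδ_surjective J S hS hE 0) (fun S hS hE => tδ_surjective fs S hS hE 1 2 rfl (by norm_num))
      (fun M => (c M).comp (σ M).toAddMonoidHom) (fun {M N} φ x => ?_) (fun M => (hcs M).comp (σ M).surjective)
      fun S hS hE y => ?_
    · change c N (σ N (wMap J φ 0 x)) = tMap fs φ 1 (c M (σ M x))
      rw [hσ, hcn]
    · change tδ fs S hS 1 2 rfl (c S.X₃ (σ S.X₃ y)) = 0 ↔ wδ J S hS 0 y = 0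
      rw [LinearMap.map_eq_zero_iff _ (tδ_injective fs S hS hE 1 2 rfl le_rfl), hck]
      refine Iff.trans ?_ (Cohom.exact₃ (A := A) (wSES J hS) 0 y).symm
      constructor
      · rintro ⟨m, hm⟩
        obtain ⟨e, rfl⟩ := (ModuleCat.epi_iff_surjective _).1 hS.epi_g m
        refine ⟨(σ S.X₂).symm (Formal2Sec7.j J S.X₂ e), (σ S.X₃).injective ?_⟩
        refine (hσ S.g _).trans ?_
        rw [AddEquiv.apply_symm_apply, Formal2Sec7.sm_j]
        exact hm
      · rintro ⟨w, hw⟩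
        obtain ⟨e, he⟩ := Formal2Sec7.j_surjective J S.X₂ (σ S.X₂ w)
        refine ⟨S.g.hom e, ?_⟩
        rw [← Formal2Sec7.sm_j, he, ← hσ]
        exact congrArg (σ S.X₃) hw
  | succ p ih =>
    obtain ⟨e, he⟩ := ih
    have h : (p : ℤ) + 2 + 1 = ((p + 1 : ℕ) : ℤ) + 2 := by push_cast; ring
    refine exists_shift (A := A) (fun φ => (wMap J φ (p + 1)).toAddMonoidHom)
      (fun φ => (wMap J φ (p + 1 + 1)).toAddMonoidHom)
      (fun φ => (tMap fs φ ((p : ℤ) + 2)).toAddMonoidHom) (fun φ => (tMap fs φ (((p + 1 : ℕ) : ℤ) + 2)).toAddMonoidHom)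
      (fun S hS => (wδ J S hS (p + 1)).toAddMonoidHom) (fun S hS => (tδ fs S hS _ _ h).toAddMonoidHom)
      (fun S T hS hT τ x => wδ_naturality J hS hT τ (p + 1) x) (fun S T hS hT τ x => tδ_naturality fs hS hT τ _ _ h x)
      (fun S hS hE => wδ_surjective J S hS hE (p + 1))
      (fun S hS hE => tδ_surjective fs S hS hE _ _ h (by omega))
      (fun M => (e M).toAddMonoidHom) (fun φ x => he φ x) (fun M => (e M).surjective) fun S hS hE y => ?_
    change tδ fs S hS _ _ h (e S.X₃ y) = 0 ↔ wδ J S hS (p + 1) y = 0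
    rw [LinearMap.map_eq_zero_iff _ (tδ_injective fs S hS hE _ _ h (by omega)), (e S.X₃).map_eq_zero_iff]
    refine ⟨fun hy => by rw [hy, map_zero], fun hy => ?_⟩
    obtain ⟨w, rfl⟩ := (Cohom.exact₃ (A := A) (wSES J hS) (p + 1) y).1 hy
    exact (congrArg _ ((subsingleton_HW J S.X₂ p).elim w 0)).trans (map_zero _)

end GrothLib.AlgzFormal3
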