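import Groth.Agent.Lib.AlgzFormal3.Tower
import Groth.Agent.Lib.RGamma.CechRlim

/-!
# The cohomology of the completed Čech complex as a limit
-/

set_option autoImplicit false
set_option linter.style.haveILetI false
universe u

open CategoryTheory CategoryTheory.Limits HomologicalComplex GrothLib.RGamma GrothLib.ExtCech DerCA

namespace GrothLib.AlgzFormal3

variable {A : Type u} [CommRing A]

section Cls

variable {K L : CochainComplex (ModuleCat.{u} A) ℤ}

theorem exists_cycle {j k : ℤ} (hk : j + 1 = k) (x : K.X j) (hx : (K.d j k).hom x = 0) :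
    ∃ z : K.cycles j, (K.iCycles j).hom z = x := by
  have h : (ShortComplex.mk (K.iCycles j) (K.d j k) (K.iCycles_d j k)).Exact :=
    ShortComplex.exact_of_f_is_kernel _
      (K.cyclesIsKernel j k ((ComplexShape.up ℤ).next_eq' hk))
  exact (ShortComplex.moduleCat_exact_iff _).1 h x hx

theorem iCycles_injective (j : ℤ) : Function.Injective (K.iCycles j).hom :=
  (ModuleCat.mono_iff_injective _).1 inferInstance

/-- The class of a cocycle. -/
noncomputable def cls {j k : ℤ} (hk : j + 1 = k) (x : K.X j) (hx : (K.d j k).hom x = 0) : K.homology j :=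
  (K.homologyπ j).hom (exists_cycle hk x hx).choose

theorem cls_eq {j k : ℤ} (hk : j + 1 = k) (x : K.X j) (hx : (K.d j k).hom x = 0) (z : K.cycles j)
    (hz : (K.iCycles j).hom z = x) : cls hk x hx = (K.homologyπ j).hom z :=
  congrArg (K.homologyπ j).hom (iCycles_injective j ((exists_cycle hk x hx).choose_spec.trans hz.symm))

theorem cls_surjective {j k : ℤ} (hk : j + 1 = k) (c : K.homology j) :
    ∃ x hx, cls (K := K) hk x hx = c := by
  obtain ⟨z, rfl⟩ := (ModuleCat.epi_iff_surjective _).1 (inferInstance : Epi (K.homologyπ j)) c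
  exact ⟨_, ConcreteCategory.congr_hom (K.iCycles_d j k) z, cls_eq hk _ _ z rfl⟩

theorem d_map (φ : K ⟶ L) (j k : ℤ) (x : K.X j) :
    (L.d j k).hom ((φ.f j).hom x) = (φ.f k).hom ((K.d j k).hom x) :=
  ConcreteCategory.congr_hom (φ.comm j k) x

theorem d_d (i j k : ℤ) (x : K.X i) : (K.d j k).hom ((K.d i j).hom x) = 0 :=
  ConcreteCategory.congr_hom (K.d_comp_d i j k) x

theorem cls_map (φ : K ⟶ L) {j k : ℤ} (hk : j + 1 = k) (x : K.X j) (hx : (K.d j k).hom x = 0)
    (hx' : (L.d j k).hom ((φ.f j).hom x) = 0 :=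
      (d_map φ j k x).trans ((congrArg (φ.f k).hom hx).trans (map_zero (φ.f k).hom))) :
    (homologyMap φ j).hom (cls hk x hx) = cls hk ((φ.f j).hom x) hx' := by
  obtain ⟨z, hz⟩ := exists_cycle hk x hx
  rw [cls_eq hk x hx z hz, cls_eq hk _ hx' ((cyclesMap φ j).hom z)]
  · exact ConcreteCategory.congr_hom (homologyπ_naturality φ j) z
  · exact (ConcreteCategory.congr_hom (cyclesMap_i φ j) z).trans (congrArg (φ.f j).hom hz)

theorem cls_sub {j k : ℤ} (hk : j + 1 = k) (x y : K.X j) (hx : (K.d j k).hom x = 0)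
    (hy : (K.d j k).hom y = 0) (hxy : (K.d j k).hom (x - y) = 0) :
    cls hk (x - y) hxy = cls hk x hx - cls hk y hy := by
  obtain ⟨a, ha⟩ := exists_cycle hk x hx
  obtain ⟨b, hb⟩ := exists_cycle hk y hy
  rw [cls_eq hk _ _ a ha, cls_eq hk _ _ b hb, cls_eq hk _ _ (a - b) (by rw [map_sub, ha, hb]), map_sub]

theorem cls_eq_zero_iff {i j k : ℤ} (hi : i + 1 = j) (hk : j + 1 = k) (x : K.X j)
    (hx : (K.d j k).hom x = 0) : cls hk x hx = 0 ↔ ∃ y, (K.d i j).hom y = x := by
  obtain ⟨z, hz⟩ := exists_cycle hk x hx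
  rw [cls_eq hk x hx z hz]
  have h : (ShortComplex.mk (K.toCycles i j) (K.homologyπ j) (K.toCycles_comp_homologyπ i j)).Exact :=
    ShortComplex.exact_of_g_is_cokernel _
      (K.homologyIsCokernel i j ((ComplexShape.up ℤ).prev_eq' hi))
  constructor
  · intro h0
    obtain ⟨y, hy⟩ := (ShortComplex.moduleCat_exact_iff _).1 h z h0
    exact ⟨y, (ConcreteCategory.congr_hom (K.toCycles_i i j) y).symm.trans
      ((congrArg (K.iCycles j).hom hy).trans hz)⟩
  · rintro ⟨y, hy⟩
    have : (K.toCycles i j).hom y = z := iCycles_injective j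
      ((ConcreteCategory.congr_hom (K.toCycles_i i j) y).trans (hy.trans hz.symm))
    rw [← this]
    exact ConcreteCategory.congr_hom (K.toCycles_comp_homologyπ i j) y

/-- The cocycles modulo coboundaries form a quotient of the cohomology. -/
theorem isArtinian_cycles_mod {j : ℤ} [IsArtinian A (K.homology j)] (i : ℤ) (hi : i + 1 = j) :
    IsArtinian A ((LinearMap.ker (K.d j (j + 1)).hom).map (LinearMap.range (K.d i j).hom).mkQ) := by
  let Z := LinearMap.ker (K.d j (j + 1)).hom
  let f : Z →ₗ[A] K.homology j :=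
    { toFun := fun x => cls rfl x.1 x.2
      map_add' := fun x y => by
        have h := cls_sub rfl (x.1 + y.1) y.1 (x + y).2 y.2 (by rw [add_sub_cancel_right]; exact x.2)
        simp only [add_sub_cancel_right] at h
        exact (sub_eq_iff_eq_add.1 h.symm)
      map_smul' := fun a x => by
        obtain ⟨z, hz⟩ := exists_cycle (k := j + 1) rfl x.1 x.2
        refine (cls_eq rfl _ _ (a • z) (by rw [map_smul, hz]; rfl)).trans ?_
        rw [map_smul, cls_eq rfl _ _ z hz]
        rfl }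
  let g : Z →ₗ[A] Z.map (LinearMap.range (K.d i j).hom).mkQ :=
    LinearMap.codRestrict _ ((LinearMap.range (K.d i j).hom).mkQ ∘ₗ Z.subtype)
      fun x => Submodule.mem_map_of_mem x.2
  have hker : LinearMap.ker f ≤ LinearMap.ker g := fun x hx => by
    obtain ⟨y, hy⟩ := (cls_eq_zero_iff hi rfl x.1 x.2).1 hx
    exact Subtype.ext ((Submodule.Quotient.mk_eq_zero _).2 ⟨y, hy⟩)
  haveI : IsArtinian A (LinearMap.range f) := inferInstance
  haveI : IsArtinian A (Z ⧸ LinearMap.ker f) := isArtinian_of_linearEquiv f.quotKerEquivRange.symm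
  refine isArtinian_of_surjective _ ((LinearMap.ker f).liftQ g hker) ?_
  rintro ⟨_, x, hx, rfl⟩
  exact ⟨Submodule.Quotient.mk ⟨x, hx⟩, rfl⟩

end Cls

variable (I : Ideal A) (fs : List A) (M : ModuleCat.{u} A)

/-- Projections of the completed complex detect and glue elements. -/
theorem hat_ext (p : ℤ) {z z' : (hatCx I (extCech M fs)).X p}
    (h : ∀ n, ((hatPr I fs M n).f p).hom z = ((hatPr I fs M n).f p).hom z') : z = z' :=
  (ModuleCat.mono_iff_injective _).1 ((rlimSC_shortExact I fs M).map_of_exact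
    (HomologicalComplex.eval (ModuleCat.{u} A) (ComplexShape.up ℤ) p)).mono_f (funext h)

theorem hat_glue (p : ℤ) (y : ∀ n, (redCx I fs M n).X p)
    (hy : ∀ n, ((cxMap (quotT I M n) fs).f p).hom (y (n + 1)) = y n) :
    ∃ z : (hatCx I (extCech M fs)).X p, ∀ n, ((hatPr I fs M n).f p).hom z = y n := by
  obtain ⟨z, hz⟩ := (ShortComplex.moduleCat_exact_iff _).1 ((rlimSC_shortExact I fs M).map_of_exact
    (HomologicalComplex.eval (ModuleCat.{u} A) (ComplexShape.up ℤ) p)).exact y
    (funext fun n => sub_eq_zero.2 (hy n).symm)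
  exact ⟨z, fun n => congrFun hz n⟩

theorem quotT_surjective (p : ℤ) (n : ℕ) : Function.Surjective ((cxMap (quotT I M n) fs).f p).hom := fun y => by
  obtain ⟨x, hx⟩ := (isModQuot_cxMap (I ^ n) (quotHom I M n) (isModQuot_quotHom I M n) fs p).1 y
  exact ⟨_, (red_compat I fs M n p x).trans hx⟩

theorem hatPr_compat_apply (p : ℤ) (n : ℕ) (z : (hatCx I (extCech M fs)).X p) :
    ((cxMap (quotT I M n) fs).f p).hom (((hatPr I fs M (n + 1)).f p).hom z) = ((hatPr I fs M n).f p).hom z :=
  ConcreteCategory.congr_hom (congrArg (fun φ : hatCx I (extCech M fs) ⟶ redCx I fs M n => φ.f p)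
    (hatPr_compat I fs M n)) z

/-- Compatible families of cohomology classes come from the completed complex. -/
theorem exists_of_compatible (p : ℤ) (y : ∀ n, (redCx I fs M n).homology p)
    (hy : ∀ n, (homologyMap (cxMap (quotT I M n) fs) p).hom (y (n + 1)) = y n) :
    ∃ x : (hatCx I (extCech M fs)).homology p, ∀ n, (homologyMap (hatPr I fs M n) p).hom x = y n := by
  choose z hz hzy using fun n => cls_surjective (K := redCx I fs M n) (j := p) (k := p + 1) rfl (y n)
  let t := fun n => cxMap (quotT I M n) fs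
  have step : ∀ n, ∀ w : {w : (redCx I fs M n).X p // ∃ hw, cls (k := p + 1) rfl w hw = y n},
      ∃ w' : {w' : (redCx I fs M (n + 1)).X p // ∃ hw, cls (k := p + 1) rfl w' hw = y (n + 1)},
        ((t n).f p).hom w'.1 = w.1 := fun n ⟨w, hw, hwy⟩ => by
    have hzero : cls (K := redCx I fs M n) (k := p + 1) rfl (((t n).f p).hom (z (n + 1)) - w)
        (by rw [map_sub, d_map, hz, map_zero, hw, sub_zero]) = 0 := by
      rw [cls_sub rfl _ _ ((d_map _ _ _ _).trans (by rw [hz, map_zero])) hw, ← cls_map (t n) rfl _ (hz (n + 1)),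
        hzy, hy, hwy, sub_self]
    obtain ⟨v, hv⟩ := (cls_eq_zero_iff (i := p - 1) (by omega) rfl _ _).1 hzero
    obtain ⟨v', rfl⟩ := quotT_surjective I fs M (p - 1) n v
    refine ⟨⟨z (n + 1) - ((redCx I fs M (n + 1)).d (p - 1) p).hom v',
      by rw [map_sub, hz, d_d, sub_zero], ?_⟩, ?_⟩
    · rw [cls_sub rfl _ _ (hz (n + 1)) (d_d _ _ _ _), (cls_eq_zero_iff (i := p - 1) (by omega) rfl _ _).2 ⟨v', rfl⟩,
        sub_zero, hzy]
    · change ((t n).f p).hom (_ - _) = w
      rw [map_sub, ← d_map, hv, sub_sub_cancel]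
  choose r hr using step
  let w : ∀ n, {w : (redCx I fs M n).X p // ∃ hw, cls (k := p + 1) rfl w hw = y n} :=
    fun n => Nat.rec (motive := fun n => {w : (redCx I fs M n).X p // ∃ hw, cls (k := p + 1) rfl w hw = y n})
      ⟨z 0, hz 0, hzy 0⟩ r n
  obtain ⟨Z, hZ⟩ := hat_glue I fs M p (fun n => (w n).1) fun n => hr n (w n)
  have hdZ : ((hatCx I (extCech M fs)).d p (p + 1)).hom Z = 0 :=
    hat_ext I fs M (p + 1) fun n => by rw [map_zero, ← d_map, hZ]; exact (w n).2.1
  refine ⟨cls (k := p + 1) rfl Z hdZ, fun n => ?_⟩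
  rw [cls_map]
  obtain ⟨h, he⟩ := (w n).2
  exact Eq.trans (by congr 1; exact hZ n) he

/-- A class vanishing at every level is zero when the previous cohomology is Artinian at every level. -/
theorem eq_zero_of_forall (p : ℤ) (hart : ∀ n, IsArtinian A ((redCx I fs M n).homology (p - 1)))
    (x : (hatCx I (extCech M fs)).homology p) (hx : ∀ n, (homologyMap (hatPr I fs M n) p).hom x = 0) : x = 0 := by
  obtain ⟨Z, hZ, rfl⟩ := cls_surjective (j := p) (k := p + 1) rfl x
  have hw : ∀ n, ∃ w, ((redCx I fs M n).d (p - 1) p).hom w = ((hatPr I fs M n).f p).hom Z := fun n =>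
    (cls_eq_zero_iff (i := p - 1) (by omega) rfl _ _).1 ((cls_map (hatPr I fs M n) rfl Z hZ).symm.trans (hx n))
  choose w hw using hw
  let R := fun n => redCx I fs M n
  let B : ∀ n, Submodule A ((R n).X (p - 1)) := fun n => LinearMap.range ((R n).d (p - 1 - 1) (p - 1)).hom
  let t := fun n => cxMap (quotT I M n) fs
  have hB : ∀ n, B (n + 1) ≤ (B n).comap ((t n).f (p - 1)).hom := fun n => by
    rintro _ ⟨v, rfl⟩
    exact ⟨_, d_map (t n) _ _ v⟩
  let T : ∀ n, ((R (n + 1)).X (p - 1) ⧸ B (n + 1)) →ₗ[A] ((R n).X (p - 1) ⧸ B n) := fun n =>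
    Submodule.mapQ _ _ ((t n).f (p - 1)).hom (hB n)
  let H : ∀ n, Submodule A ((R n).X (p - 1) ⧸ B n) := fun n =>
    (LinearMap.ker ((R n).d (p - 1) (p - 1 + 1)).hom).map (B n).mkQ
  haveI : ∀ n, IsArtinian A (H n) := fun n => by
    haveI := hart n
    exact isArtinian_cycles_mod (K := R n) (j := p - 1) (p - 1 - 1) (by omega)
  have hp : p - 1 + 1 = p := by omega
  obtain ⟨b, hb, hbt⟩ := exists_compatible (t := T) (H := H) (fun n => by
      rintro _ ⟨_, ⟨v, hv, rfl⟩, rfl⟩
      exact ⟨_, LinearMap.mem_ker.2 ((d_map (t n) _ _ v).trans (by rw [LinearMap.mem_ker.1 hv, map_zero])), rfl⟩)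
    (fun n => Submodule.Quotient.mk (w n)) fun n => by
      refine ⟨((t n).f (p - 1)).hom (w (n + 1)) - w n, ?_, rfl⟩
      change ((R n).d (p - 1) (p - 1 + 1)).hom _ = 0
      rw [hp, map_sub, hw, d_map, hw]
      exact sub_eq_zero.2 (hatPr_compat_apply I fs M p n Z)
  have step : ∀ n, ∀ v : {v : (R n).X (p - 1) // Submodule.Quotient.mk v = b n},
      ∃ v' : {v' : (R (n + 1)).X (p - 1) // Submodule.Quotient.mk v' = b (n + 1)},
        ((t n).f (p - 1)).hom v'.1 = v.1 := fun n ⟨v, hv⟩ => by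
    obtain ⟨v', hv'⟩ := Submodule.Quotient.mk_surjective _ (b (n + 1))
    have h0 : ((t n).f (p - 1)).hom v' - v ∈ B n := by
      rw [← Submodule.Quotient.eq, hv, ← hbt n, ← hv']
      rfl
    obtain ⟨e, he⟩ := h0
    obtain ⟨e', rfl⟩ := quotT_surjective I fs M (p - 1 - 1) n e
    refine ⟨⟨v' - ((R (n + 1)).d (p - 1 - 1) (p - 1)).hom e', ?_⟩, ?_⟩
    · rw [Submodule.Quotient.mk_sub, hv', (Submodule.Quotient.mk_eq_zero (B (n + 1))).2 ⟨e', rfl⟩, sub_zero]
    · change ((t n).f (p - 1)).hom (_ - _) = v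
      rw [map_sub, ← d_map, he, sub_sub_cancel]
  choose r hr using step
  let v : ∀ n, {v : (R n).X (p - 1) // Submodule.Quotient.mk v = b n} :=
    fun n => Nat.rec (motive := fun n => {v : (R n).X (p - 1) // Submodule.Quotient.mk v = b n})
      ⟨_, (Submodule.Quotient.mk_surjective _ (b 0)).choose_spec⟩ r n
  obtain ⟨V, hV⟩ := hat_glue I fs M (p - 1) (fun n => (v n).1) fun n => hr n (v n)
  refine (cls_eq_zero_iff (i := p - 1) (by omega) rfl Z hZ).2 ⟨V, hat_ext I fs M p fun n => ?_⟩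
  rw [← d_map, hV, ← hw n, ← sub_eq_zero, ← map_sub]
  have h := hb n
  rw [← (v n).2, ← Submodule.Quotient.mk_sub] at h
  obtain ⟨c, hc, hcv⟩ := h
  obtain ⟨e, he⟩ := (Submodule.Quotient.eq _).1 hcv.symm
  rw [← sub_add_cancel ((v n).1 - w n) c, map_add, ← he, d_d, zero_add]
  have hc' : ((R n).d (p - 1) (p - 1 + 1)).hom c = 0 := hc
  rw [hp] at hc'
  exact hc'

end GrothLib.AlgzFormal3
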