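import Groth.Agent.Lib.AlgzFormal3.HatLim
import Groth.Agent.Lib.AlgzFormal3.Cmp
import Groth.Agent.Lib.DerComplBij3.Main
import Groth.Agent.Lib.LC.TopNonzero
import Groth.Agent.Lib.AdicLim.Finite

/-!
# Algebraization of formal cohomology on opens of the punctured spectrum
-/

set_option autoImplicit false
set_option linter.style.haveILetI false
set_option linter.unusedSectionVars false

universe u

open CategoryTheory CategoryTheory.Limits AlgebraicGeometry DerCA Formal2 GrothLib.RGamma GrothLib.DualCx22 IsLocalRing PrimeSpectrum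

attribute [local instance] HasDerivedCategory.standard

noncomputable section

namespace GrothLib.AlgzFormal3

variable {A : Type u} [CommRing A] [IsNoetherianRing A]

theorem subsingleton_extCechH_of_subsingleton (fs : List A) (N : ModuleCat.{u} A) [Subsingleton N] (k : ℤ) :
    Subsingleton (extCechH fs N k) :=
  ModuleCat.subsingleton_of_isZero ((HomologicalComplex.homologyFunctor _ _ k).map_isZero
    ((SGA2Fin.cxF fs).map_isZero (ModuleCat.isZero_of_subsingleton N)))

theorem isArtinian_extCechH [IsLocalRing A] (I J : Ideal A) (fs : List A) (hfs : Ideal.span {x | x ∈ fs} = J)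
    (hrad : (I ⊔ J).radical = maximalIdeal A) (N : ModuleCat.{u} A) [Module.Finite A N]
    (hN : LocCoh.IsPowerTorsion I N) (k : ℤ) : IsArtinian A (extCechH fs N k) := by
  by_cases hk : k < 0
  · haveI : Subsingleton (extCechH fs N k) := ModuleCat.subsingleton_of_isZero (isZero_homology_of_X
      (ExtCech.isZero_X N fs k (Or.inl hk)))
    exact inferInstanceAs (IsArtinian A (extCechH fs N k))
  obtain ⟨j, rfl⟩ := Int.eq_ofNat_of_zero_le (not_lt.1 hk)
  haveI := hasRgammaI I
  haveI := hasRgammaI J
  haveI := hasRgammaI (I ⊔ J)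
  haveI := hasRgammaI (maximalIdeal A)
  obtain ⟨e₁⟩ := ExtCech.nonempty_extCechH_equiv fs j N
  obtain ⟨e₂⟩ := GrothLib.KillCompl3.nonempty_HD_rgamma J N j
  haveI := GrothLib.RGamma.isIso_ε I (Dual.inD A N) fun i => by
    by_cases hi : i = 0
    · subst hi
      exact GrothLib.RGamma.isPowerTorsion_of_linearEquiv I
        (((DerivedCategory.singleFunctorCompHomologyFunctorIso (ModuleCat.{u} A) 0).app N).toLinearEquiv.symm :
          N ≃ₗ[A] Dual.HD A (Dual.inD A N) 0) hN
    · haveI := GrothLib.DR.subsingleton_HD_inD (A := A) N i hi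
      exact fun x => ⟨0, fun a _ => Subsingleton.elim _ _⟩
  obtain ⟨e₃⟩ := GrothLib.RGamma.comp_iso_sup I J (Dual.inD A N)
  obtain ⟨e₄, -⟩ := GrothLib.DerComplBij3.nonempty_rgamma_iso (I ⊔ J) (maximalIdeal A)
    ((Ideal.le_radical.trans hrad.le).trans Ideal.le_radical) hrad.ge (Dual.inD A N)
  obtain ⟨e₅⟩ := GrothLib.KillCompl3.nonempty_HD_rgamma (maximalIdeal A) N j
  haveI : IsArtinian A (LocCoh.H (maximalIdeal A) j N) := GrothLib.LC.isArtinian_H_maximal j N
  subst hfs
  exact isArtinian_of_linearEquiv ((e₁.trans ((e₂.symm.trans (GrothLib.RGamma.hdIso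
    (((DRing.RgammaI _).mapIso (asIso ((DRing.RgammaIε I).app (Dual.inD A N)))).symm ≪≫ e₃ ≪≫ e₄) (j : ℤ))).trans e₅)).symm)

variable (I : Ideal A) (fs : List A) (M : ModuleCat.{u} A)

theorem toHat_hatPr (n : ℕ) : toHat I (extCech M fs) ≫ hatPr I fs M n = ExtCech.cxMap (quotHom I M n) fs := by
  refine HomologicalComplex.hom_ext _ _ fun p => ModuleCat.hom_ext (LinearMap.ext fun x => ?_)
  change evQuot I n _ (isModQuot_cxMap (I ^ n) (quotHom I M n) (isModQuot_quotHom I M n) fs p) (AdicCompletion.of I _ x) = _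
  exact evQuot_apply I n _ (isModQuot_cxMap (I ^ n) (quotHom I M n) (isModQuot_quotHom I M n) fs p) _ x rfl

theorem toHat_hatPr_apply (k : ℤ) (n : ℕ) (x : extCechH fs M k) :
    (HomologicalComplex.homologyMap (hatPr I fs M n) k).hom
      ((HomologicalComplex.homologyMap (toHat I (extCech M fs)) k).hom x) = tMap fs (quotHom I M n) k x :=
  (ConcreteCategory.congr_hom (HomologicalComplex.homologyMap_comp (toHat I (extCech M fs)) (hatPr I fs M n) k) x).symm.trans
    (congrArg (fun φ : extCech M fs ⟶ redCx I fs M n => (HomologicalComplex.homologyMap φ k).hom x) (toHat_hatPr I fs M n))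

theorem subsingleton_quotMod_zero : Subsingleton (quotMod I M 0) :=
  Submodule.Quotient.subsingleton_iff.2 (by simp)

variable {I fs M}

/-- The tower of Čech local cohomology computes that of the module. -/
theorem bij_extCechH [IsLocalRing A] [DRing.HasDerivedCompletion I] (J : Ideal A) [DRing.HasRgammaI J]
    (hfs : Ideal.span {x | x ∈ fs} = J) (hrad : (I ⊔ J).radical = maximalIdeal A) [Module.Finite A M] (k : ℤ)
    (hbij : Function.Bijective ((DerivedCategory.homologyFunctor (ModuleCat.{u} A) k).map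
      (DRing.toDerivedCompletion I ((DRing.RgammaI J).obj (Dual.inD A M)))).hom) :
    (∀ x : extCechH fs M k, (∀ n, tMap fs (quotHom I M (n + 1)) k x = 0) → x = 0) ∧
      ∀ y : ∀ n, extCechH fs (quotMod I M (n + 1)) k, (∀ n, tMap fs (quotT I M (n + 1)) k (y (n + 1)) = y n) →
        ∃ x : extCechH fs M k, ∀ n, tMap fs (quotHom I M (n + 1)) k x = y n := by
  obtain ⟨e, i, -, hei⟩ := exists_iso_completion_cech I J fs hfs M
  let F := DerivedCategory.homologyFunctor (ModuleCat.{u} A) k
  let Φ := (DerivedCategory.homologyFunctorFactors (ModuleCat.{u} A) k).hom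
  have hb : Function.Bijective (HomologicalComplex.homologyMap (toHat I (extCech M fs)) k).hom := by
    haveI := (ConcreteCategory.isIso_iff_bijective (F.map (DRing.toDerivedCompletion I _))).2 hbij
    haveI : IsIso (F.map (DerivedCategory.Q.map (toHat I (extCech M fs)))) := by
      have h : DerivedCategory.Q.map (toHat I (extCech M fs)) =
          e.inv ≫ DRing.toDerivedCompletion I _ ≫ i.hom := (Iso.eq_inv_comp e).2 hei.symm
      rw [h, F.map_comp, F.map_comp]
      infer_instance
    haveI hΦ : ∀ X : DRing.Cx A, IsIso (Φ.app X) := fun X =>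
      inferInstanceAs (IsIso ((DerivedCategory.homologyFunctorFactors (ModuleCat.{u} A) k).hom.app X))
    have hn := Φ.naturality (toHat I (extCech M fs))
    haveI : IsIso (HomologicalComplex.homologyMap (toHat I (extCech M fs)) k) := by
      have h : HomologicalComplex.homologyMap (toHat I (extCech M fs)) k =
          inv (Φ.app _) ≫ F.map (DerivedCategory.Q.map (toHat I (extCech M fs))) ≫ Φ.app _ :=
        (IsIso.eq_inv_comp (Φ.app _)).2 hn.symm
      rw [h]
      exact @IsIso.comp_isIso _ _ _ _ _ _ _ (@IsIso.inv_isIso _ _ _ _ _ (hΦ _)) (@IsIso.comp_isIso _ _ _ _ _ _ _ inferInstance (hΦ _))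
    exact ConcreteCategory.bijective_of_isIso (HomologicalComplex.homologyMap (toHat I (extCech M fs)) k)
  haveI h0 : Subsingleton (extCechH fs (quotMod I M 0) k) :=
    haveI := subsingleton_quotMod_zero I M
    subsingleton_extCechH_of_subsingleton fs _ k
  have hart : ∀ n, IsArtinian A ((redCx I fs M n).homology (k - 1)) := fun n =>
    isArtinian_extCechH I J fs hfs hrad (quotMod I M n) (fun x => ⟨n, fun a ha => by
      obtain ⟨m, rfl⟩ := Submodule.Quotient.mk_surjective _ x
      exact (Submodule.Quotient.mk_eq_zero _).2 (Submodule.smul_mem_smul ha trivial)⟩) (k - 1)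
  refine ⟨fun x hx => hb.1 ?_, fun y hy => ?_⟩
  · rw [map_zero]
    refine eq_zero_of_forall I fs M k hart _ fun n => ?_
    rw [toHat_hatPr_apply]
    cases n with
    | zero => exact h0.elim _ _
    | succ n => exact hx n
  · let y' : ∀ n, extCechH fs (quotMod I M n) k := fun n => Nat.casesOn (motive := fun n => extCechH fs (quotMod I M n) k) n 0 y
    obtain ⟨z, hz⟩ := exists_of_compatible I fs M k y' fun n => by
      cases n with
      | zero => exact h0.elim _ _
      | succ n => exact hy n
    obtain ⟨x, rfl⟩ := hb.2 z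
    exact ⟨x, fun n => (toHat_hatPr_apply I fs M k (n + 1) x).symm.trans (hz (n + 1))⟩

/-- Formal cohomology on a punctured spectrum from the bijectivity of the completion. -/
theorem formalCohBijective_of_completion [IsLocalRing A] [IsAdicComplete I A] [DRing.HasDerivedCompletion I]
    (J : Ideal A) [DRing.HasRgammaI J] (hrad : (I ⊔ J).radical = maximalIdeal A) [Module.Finite A M] (s : ℕ)
    (hbij : ∀ k : ℤ, k ≤ s → Function.Bijective ((DerivedCategory.homologyFunctor (ModuleCat.{u} A) k).map
      (DRing.toDerivedCompletion I ((DRing.RgammaI J).obj (Dual.inD A M)))).hom)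
    (i : ℕ) (hi : i < s) : Formal2.FormalCohBijective A I M i (LocCoh.puncturedOpen A J) := by
  obtain ⟨t, ht⟩ : J.FG := IsNoetherian.noetherian J
  let fs := t.toList
  have hfs : Ideal.span {x | x ∈ fs} = J := by
    rw [← ht]
    congr 1
    ext x
    exact Finset.mem_toList
  have hT := fun k (hk : k ≤ (s : ℤ)) => bij_extCechH J hfs hrad k (hbij k hk) (M := M)
  obtain ⟨eV, heV⟩ := PunctSec7.exists_HV_equiv J i
  rcases i with _ | p
  · -- sections
    haveI := GrothLib.AdicLim.isAdicComplete_of_finite I M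
    obtain ⟨c, hcs, hck, hcn⟩ := exists_c (J := J) hfs
    let π : ∀ n, M ⟶ quotMod I M (n + 1) := fun n => quotHom I M (n + 1)
    let τ : ∀ n, quotMod I M (n + 1 + 1) ⟶ quotMod I M (n + 1) := fun n => quotT I M (n + 1)
    have hπτ : ∀ n, π (n + 1) ≫ τ n = π n := fun n => ModuleCat.hom_ext (LinearMap.ext fun x => rfl)
    have hsm : ∀ {N P : ModuleCat.{u} A} (φ : N ⟶ P) (m : N),
        Formal2Sec7.sm J φ.hom (Formal2Sec7.j J N m) = Formal2Sec7.j J P (φ.hom m) := fun φ m => Formal2Sec7.sm_j J _ m
    have inj : ∀ x : Formal2Sec7.Sc J M, (∀ n, Formal2Sec7.sm J (π n).hom x = 0) → x = 0 := by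
      intro x hx
      obtain ⟨m, rfl⟩ := (hck M x).1 ((hT 1 (by omega)).1 _ fun n => by rw [← hcn, hx n, map_zero])
      choose z hz using fun n => (mem_range_aug_iff hfs (quotMod I M (n + 1)) ((π n).hom m)).2 (by
        rw [← hsm]; exact hx n)
      obtain ⟨w, hw⟩ := (hT 0 (by omega)).2 z fun n => (ExtCech.aug_injective_and_range _ fs).1 (by
        rw [ExtCech.aug_naturality_apply, hz (n + 1), hz n]
        rfl)
      have hm : m = (ExtCech.aug M fs).hom w := by
        refine sub_eq_zero.1 (IsHausdorff.haus (I := I) inferInstance _ fun n => ?_)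
        rw [SModEq.zero]
        cases n with
        | zero => simp
        | succ n =>
          refine (Submodule.Quotient.mk_eq_zero _).1 ?_
          rw [Submodule.Quotient.mk_sub]
          refine sub_eq_zero.2 ?_
          change (π n).hom m = (π n).hom ((ExtCech.aug M fs).hom w)
          rw [← hz n, ← hw n, ExtCech.aug_naturality_apply]
      rw [hm]
      exact (mem_range_aug_iff hfs M _).1 ⟨w, rfl⟩
    have surj : ∀ y : ∀ n, Formal2Sec7.Sc J (quotMod I M (n + 1)),
        (∀ n, Formal2Sec7.sm J (τ n).hom (y (n + 1)) = y n) → ∃ x, ∀ n, Formal2Sec7.sm J (π n).hom x = y n := by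
      intro y hy
      obtain ⟨h, hh⟩ := (hT 1 (by omega)).2 (fun n => c _ (y n)) fun n => by rw [← hcn, hy n]
      obtain ⟨s₀, rfl⟩ := hcs M h
      let w := fun n => y n - Formal2Sec7.sm J (π n).hom s₀
      choose m hm using fun n => (hck _ (w n)).1 (by rw [map_sub, hcn, hh n, sub_self])
      have hwτ : ∀ n, Formal2Sec7.sm J (τ n).hom (w (n + 1)) = w n := fun n => by
        simp only [w]
        rw [map_sub, hy n, ← Formal2Sec7.sm_comp, ← ModuleCat.hom_comp, hπτ]
      let H : ∀ n, Submodule A (quotMod I M (n + 1)) := fun n => LinearMap.range (ExtCech.aug (quotMod I M (n + 1)) fs).hom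
      haveI : ∀ n, IsArtinian A (H n) := fun n => by
        haveI := isArtinian_extCechH I J fs hfs hrad (quotMod I M (n + 1)) (fun x => ⟨n + 1, fun a ha => by
          obtain ⟨m, rfl⟩ := Submodule.Quotient.mk_surjective _ x
          exact (Submodule.Quotient.mk_eq_zero _).2 (Submodule.smul_mem_smul ha trivial)⟩) 0
        exact inferInstance
      obtain ⟨b, hb, hbt⟩ := exists_compatible (t := fun n => (τ n).hom) (H := H) (fun n => by
          rintro _ ⟨_, ⟨z, rfl⟩, rfl⟩
          exact ⟨_, ExtCech.aug_naturality_apply (τ n) fs z⟩) m fun n => by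
        rw [mem_range_aug_iff hfs, map_sub, ← hsm, hm, hm, hwτ, sub_self]
      choose f hf using fun n => Submodule.Quotient.mk_surjective _ (b n)
      let g : ℕ → M := fun n => Nat.casesOn n 0 f
      have hg : ∀ n, g n ≡ g (n + 1) [SMOD (I ^ n • ⊤ : Submodule A M)] := fun n => by
        cases n with
        | zero => rw [SModEq.sub_mem]; simp
        | succ n =>
          change Submodule.Quotient.mk (f n) = Submodule.Quotient.mk (f (n + 1))
          rw [hf n, ← hbt n, ← hf (n + 1)]
          rfl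
      obtain ⟨m₀, hm₀⟩ := (AdicCompletion.of_bijective I M).2
        (AdicCompletion.mk I M (AdicCompletion.AdicCauchySequence.mk I M g hg))
      have hbm : ∀ n, (π n).hom m₀ = b n := fun n => by
        rw [← hf n]
        exact congrArg (fun z : AdicCompletion I M => z.val (n + 1)) hm₀
      refine ⟨s₀ + Formal2Sec7.j J M m₀, fun n => ?_⟩
      have hd : Formal2Sec7.j J _ (b n) = w n := by
        rw [← hm n, ← sub_eq_zero, ← map_sub]
        exact (mem_range_aug_iff hfs _ _).1 (hb n)
      rw [map_add, hsm, hbm, hd]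
      exact add_sub_cancel _ _
    let σ : ∀ N : ModuleCat.{u} A, HV A N 0 (LocCoh.puncturedOpen A J) ≃+ Formal2Sec7.Sc J N := fun N =>
      (eV N).trans (Punctured.H0Sec J (ModuleCat.of (CommRingCat.of A) N)).toAddEquiv
    have hσ : ∀ {N P : ModuleCat.{u} A} (φ : N ⟶ P) x,
        σ P (HVmap A φ.hom 0 _ x) = Formal2Sec7.sm J φ.hom (σ N x) := fun {N P} φ x =>
      (congrArg (Punctured.H0Sec J (ModuleCat.of (CommRingCat.of A) P)) (heV N P φ.hom x)).trans
        (Punctured.H0Sec_map J (ModuleCat.ofHom (R := CommRingCat.of A) φ.hom) (eV N x))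
    refine ⟨fun x x' hx => (σ M).injective (sub_eq_zero.1 (inj _ fun n => ?_)), fun y hy => ?_⟩
    · rw [map_sub, ← hσ, ← hσ]
      exact sub_eq_zero.2 (congrArg _ (hx n))
    · obtain ⟨x, hx⟩ := surj (fun n => σ (quotMod I M (n + 1)) (y n)) fun n => by
        rw [← hσ]
        exact congrArg _ (hy n)
      refine ⟨(σ M).symm x, fun n => (σ (quotMod I M (n + 1))).injective ?_⟩
      refine (hσ (π n) _).trans ?_
      rw [AddEquiv.apply_symm_apply]
      exact hx n
  · -- higher degrees
    obtain ⟨e, he⟩ := exists_e (J := J) hfs p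
    let σ : ∀ N : ModuleCat.{u} A, HV A N (p + 1) (LocCoh.puncturedOpen A J) ≃+ extCechH fs N ((p : ℤ) + 2) := fun N =>
      (eV N).trans (e N)
    have hσ : ∀ {N P : ModuleCat.{u} A} (φ : N ⟶ P) x,
        σ P (HVmap A φ.hom (p + 1) _ x) = tMap fs φ _ (σ N x) := fun {N P} φ x =>
      (congrArg (e P) (heV N P φ.hom x)).trans (he φ _)
    obtain ⟨inj, surj⟩ := hT ((p : ℤ) + 2) (by omega)
    refine ⟨fun x x' hx => (σ M).injective (sub_eq_zero.1 (inj _ fun n => ?_)), fun y hy => ?_⟩
    · rw [map_sub, ← hσ, ← hσ]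
      exact sub_eq_zero.2 (congrArg _ (hx n))
    · obtain ⟨x, hx⟩ := surj (fun n => σ (quotMod I M (n + 1)) (y n)) fun n => by
        rw [← hσ]
        exact congrArg _ (hy n)
      refine ⟨(σ M).symm x, fun n => (σ (quotMod I M (n + 1))).injective ?_⟩
      refine (hσ (quotHom I M (n + 1)) _).trans ?_
      rw [AddEquiv.apply_symm_apply]
      exact hx n

/-- **Algebraization of formal sections on the punctured spectrum.** -/
theorem exists_open_bijective {A : Type u} [CommRing A] [IsNoetherianRing A] [IsLocalRing A] (I : Ideal A)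
    [IsAdicComplete I A] (hω : ∃ ω : Dual.D A, Dual.IsDualizing A ω) (d : ℕ) (hd : LocCoh.CdLE A I d)
    (M : Type u) [AddCommGroup M] [Module A M] [Module.Finite A M] (s : ℕ)
    (h₂ : ∀ (p : Ideal A) [p.IsPrime], ¬ I ≤ p →
      (∃ r : Ideal A, r.IsPrime ∧ p ≤ r ∧ I ≤ r ∧ r ≠ maximalIdeal A) →
        (s : ℕ∞) ≤ LocCoh.depth (Localization.AtPrime p) (LocalizedModule p.primeCompl M) ∨
          ((d + s : ℕ) : WithBot ℕ∞) <
            ((LocCoh.depth (Localization.AtPrime p) (LocalizedModule p.primeCompl M) : ℕ∞) : WithBot ℕ∞) +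
              ringKrullDim (A ⧸ p)) :
    ∃ V₀ : (Spec (CommRingCat.of A)).Opens,
      Formal2.Admissible A I (LocCoh.puncturedOpen A (maximalIdeal A)) V₀ ∧
      ∀ V : (Spec (CommRingCat.of A)).Opens,
        Formal2.Admissible A I (LocCoh.puncturedOpen A (maximalIdeal A)) V → V ≤ V₀ →
          ∀ i : ℕ, i < s → Formal2.FormalCohBijective A I M i V := by
  haveI : DRing.HasDerivedCompletion I := GrothLib.DCpl.hasDerivedCompletion I (IsNoetherian.noetherian I)
  obtain ⟨J₀, hV₀, hJ₀⟩ := GrothLib.DerComplBij3.exists_ideal_bijective I hω d hd M s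
    fun p hp ⟨r, hpr, hIr, hrm⟩ => by
      rcases h₂ p.asIdeal hp ⟨r.asIdeal, r.2, hpr, hIr, hrm⟩ with h | h
      · exact Or.inl h
      · exact Or.inr (by exact_mod_cast h)
  have hIm : I ≤ maximalIdeal A :=
    (IsAdicComplete.le_jacobson_bot I).trans (jacobson_eq_maximalIdeal ⊥ bot_ne_top).le
  have hm0 : closedPoint A ∈ zeroLocus (J₀ : Set A) := (hV₀.ge rfl).1
  refine ⟨LocCoh.puncturedOpen A J₀, ⟨fun p hp hpm => hp ?_, fun p hpU hpI hpJ => hpU ?_⟩, fun V hV hVle i hi => ?_⟩
  · exact fun a ha => hpm (hm0 ha)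
  · have : p = closedPoint A := hV₀.le ⟨hpJ, hpI⟩
    rw [this]
    exact fun a ha => ha
  let Vs : Set (PrimeSpectrum A) := V.carrier
  let J : Ideal A := J₀ ⊓ vanishingIdeal Vsᶜ
  have hcl : IsClosed Vsᶜ := V.2.isClosed_compl
  have hzV : zeroLocus (J : Set A) = Vsᶜ := by
    rw [zeroLocus_inf, zeroLocus_vanishingIdeal_eq_closure, hcl.closure_eq]
    exact Set.union_eq_right.2 fun p hp hpV => hVle hpV hp
  have hVeq : V = LocCoh.puncturedOpen A J := TopologicalSpace.Opens.ext (by
    change Vs = (zeroLocus (J : Set A))ᶜ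
    rw [hzV, compl_compl])
  have hVI : zeroLocus (J : Set A) ∩ zeroLocus (I : Set A) = {closedPoint A} := by
    refine Set.Subset.antisymm (fun p ⟨hp, hpI⟩ => ?_) ?_
    · by_contra hne
      rw [hzV] at hp
      refine hp (hV.2 p (fun hpm => hne (PrimeSpectrum.ext ?_)) hpI)
      exact le_antisymm (le_maximalIdeal p.2.ne_top) hpm
    · rintro _ rfl
      refine ⟨?_, hIm⟩
      rw [hzV]
      exact fun hm => hV.1 hm (fun a ha => ha)
  have hrad : (I ⊔ J).radical = maximalIdeal A := by
    rw [← vanishingIdeal_zeroLocus_eq_radical, zeroLocus_sup, Set.inter_comm, hVI, vanishingIdeal_singleton]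
    rfl
  haveI := hasRgammaI J
  rw [hVeq]
  exact formalCohBijective_of_completion (M := ModuleCat.of A M) J hrad s
    (fun k hk => hJ₀ J inf_le_left hVI k hk) i hi

end GrothLib.AlgzFormal3
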