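import Mathlib.RingTheory.Artinian.Module
import Mathlib.Algebra.Category.ModuleCat.Basic

/-!
# Compatible elements in towers with Artinian indeterminacy
-/

set_option autoImplicit false
universe u v

namespace GrothLib.AlgzFormal3

variable {A : Type v} [CommRing A] {M : ℕ → Type u} [∀ n, AddCommGroup (M n)] [∀ n, Module A (M n)]
  (t : ∀ n, M (n + 1) →ₗ[A] M n) (H : ∀ n, Submodule A (M n))

/-- The iterated images of the submodules. -/
def subImg : ℕ → ∀ n, Submodule A (M n)
  | 0, n => H n
  | k + 1, n => (subImg k (n + 1)).map (t n)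

/-- The iterated images of the cosets. -/
def cosetImg (a : ∀ n, M n) : ℕ → ∀ n, Set (M n)
  | 0, n => {x | x - a n ∈ H n}
  | k + 1, n => t n '' cosetImg a k (n + 1)

variable {t H}

theorem subImg_succ_le (htH : ∀ n, (H (n + 1)).map (t n) ≤ H n) :
    ∀ k n, subImg t H (k + 1) n ≤ subImg t H k n
  | 0, n => htH n
  | k + 1, n => Submodule.map_mono (subImg_succ_le htH k (n + 1))

theorem subImg_le (htH : ∀ n, (H (n + 1)).map (t n) ≤ H n) (k n : ℕ) : subImg t H k n ≤ H n :=
  antitone_nat_of_succ_le (f := fun k => subImg t H k n) (fun k => subImg_succ_le htH k n) (Nat.zero_le k)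

theorem cosetImg_succ_subset {a : ∀ n, M n} (htH : ∀ n, (H (n + 1)).map (t n) ≤ H n)
    (ha : ∀ n, t n (a (n + 1)) - a n ∈ H n) : ∀ k n, cosetImg t H a (k + 1) n ⊆ cosetImg t H a k n
  | 0, n => by
    rintro _ ⟨y, hy, rfl⟩
    have h : t n y - a n = t n (y - a (n + 1)) + (t n (a (n + 1)) - a n) := by rw [map_sub]; abel
    change t n y - a n ∈ H n
    rw [h]
    exact add_mem (htH n (Submodule.mem_map_of_mem hy)) (ha n)
  | k + 1, n => Set.image_mono (cosetImg_succ_subset htH ha k (n + 1))

theorem exists_cosetImg_eq (a : ∀ n, M n) : ∀ k n, ∃ c : M n, cosetImg t H a k n = {x | x - c ∈ subImg t H k n}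
  | 0, n => ⟨a n, rfl⟩
  | k + 1, n => by
    obtain ⟨c, hc⟩ := exists_cosetImg_eq a k (n + 1)
    refine ⟨t n c, Set.ext fun x => ⟨?_, fun hx => ?_⟩⟩
    · rintro ⟨y, hy, rfl⟩
      rw [hc] at hy
      exact ⟨y - c, hy, map_sub _ _ _⟩
    · obtain ⟨z, hz, hzx⟩ := hx
      refine ⟨z + c, ?_, ?_⟩
      · rw [hc]
        simpa using hz
      · rw [map_add, hzx, sub_add_cancel]

/-- A tower of cosets of Artinian submodules contains a compatible family. -/
theorem exists_compatible [∀ n, IsArtinian A (H n)] (htH : ∀ n, (H (n + 1)).map (t n) ≤ H n) (a : ∀ n, M n)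
    (ha : ∀ n, t n (a (n + 1)) - a n ∈ H n) :
    ∃ b : ∀ n, M n, (∀ n, b n - a n ∈ H n) ∧ ∀ n, t n (b (n + 1)) = b n := by
  have hstab : ∀ n, ∃ K, ∀ k, K ≤ k → cosetImg t H a k n = cosetImg t H a K n := by
    intro n
    have hanti : Antitone fun k => subImg t H k n := antitone_nat_of_succ_le fun k => subImg_succ_le htH k n
    have hanti' : Antitone fun k => cosetImg t H a k n :=
      antitone_nat_of_succ_le fun k => cosetImg_succ_subset htH ha k n
    obtain ⟨K, hK⟩ := IsArtinian.monotone_stabilizes (R := A) (M := H n)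
      ⟨fun k => OrderDual.toDual ((subImg t H k n).comap (H n).subtype),
        fun k l hkl => OrderDual.toDual_le_toDual.2 (Submodule.comap_mono (hanti hkl))⟩
    refine ⟨K, fun k hk => ?_⟩
    have hsub : subImg t H k n = subImg t H K n := by
      have h1 : (subImg t H K n).comap (H n).subtype = (subImg t H k n).comap (H n).subtype :=
        OrderDual.toDual_inj.1 (hK k hk)
      refine le_antisymm (hanti hk) fun x hx => ?_
      exact (h1.le (show (⟨x, subImg_le htH K n hx⟩ : H n) ∈ (subImg t H K n).comap (H n).subtype from hx))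
    obtain ⟨c, hc⟩ := exists_cosetImg_eq (t := t) (H := H) a k n
    obtain ⟨c', hc'⟩ := exists_cosetImg_eq (t := t) (H := H) a K n
    refine Set.Subset.antisymm (hanti' hk) fun x hx => ?_
    have hcmem : c ∈ cosetImg t H a k n := by rw [hc]; simp
    have hc2 := hanti' hk hcmem
    rw [hc'] at hx
    simp only [hc', Set.mem_ofPred_eq] at hc2
    rw [hc]
    change x - c ∈ subImg t H k n
    rw [hsub, show x - c = (x - c') - (c - c') by abel]
    exact sub_mem hx hc2
  choose K hK using hstab
  let S : ∀ n, Set (M n) := fun n => cosetImg t H a (K n) n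
  have hS : ∀ n, S n = t n '' S (n + 1) := fun n => by
    change cosetImg t H a (K n) n = t n '' cosetImg t H a (K (n + 1)) (n + 1)
    rw [← hK n (max (K n) (K (n + 1)) + 1) (by omega), ← hK (n + 1) (max (K n) (K (n + 1))) (le_max_right _ _)]
    rfl
  have hne : ∀ n, ∃ x, x ∈ S n := fun n => by
    obtain ⟨c, hc⟩ := exists_cosetImg_eq (t := t) (H := H) a (K n) n
    refine ⟨c, ?_⟩
    change c ∈ cosetImg t H a (K n) n
    rw [hc]
    simp
  have hstep : ∀ n, ∀ x : {x // x ∈ S n}, ∃ y : {y // y ∈ S (n + 1)}, t n y.1 = x.1 := fun n x => by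
    obtain ⟨y, hy, hyx⟩ := (hS n).subset x.2
    exact ⟨⟨y, hy⟩, hyx⟩
  choose r hr using hstep
  let b : ∀ n, {x // x ∈ S n} := fun n => Nat.rec (motive := fun n => {x // x ∈ S n}) ⟨_, (hne 0).choose_spec⟩ r n
  refine ⟨fun n => (b n).1, fun n => ?_, fun n => hr n (b n)⟩
  exact (antitone_nat_of_succ_le (f := fun k => cosetImg t H a k n) fun k => cosetImg_succ_subset htH ha k n)
    (Nat.zero_le (K n)) (b n).2

end GrothLib.AlgzFormal3
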